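import Cfsg.Agent.Golay.Sextet
import Mathlib.InformationTheory.Hamming

set_option autoImplicit false

/-!
# Cosets of the length 24 code (coset leaders) and the punctured code of length 23
-/

namespace Cfsg.Agent.Golay.Coset

open Cfsg Cfsg.Agent.Golay

/-! ### Words and supports -/

theorem zmod2_ne_zero {a : ZMod 2} (h : a ≠ 0) : a = 1 := by
  revert a; decide

/-- The word with given support. -/
def wordOf (s : Finset GolayPt) : GolayPt → ZMod 2 := fun p => if p ∈ s then 1 else 0

@[simp] theorem support₂_wordOf (s : Finset GolayPt) : support₂ (wordOf s) = s := by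
  ext p
  simp [support₂, wordOf]

@[simp] theorem wordOf_support₂ (w : GolayPt → ZMod 2) : wordOf (support₂ w) = w :=
  support₂_injective (by simp)

theorem hammingNorm_eq (w : GolayPt → ZMod 2) : hammingNorm w = (support₂ w).card := rfl

theorem neg_word {α : Type*} (w : α → ZMod 2) : -w = w := by
  funext a
  exact ZMod.neg_eq_self_mod_two _

theorem sub_mem_iff {v w : GolayPt → ZMod 2} :
    w - v ∈ golayCode ↔ symmDiff (support₂ w) (support₂ v) ∈ codeSets := by
  rw [sub_eq_add_neg, neg_word, ← support₂_add]
  constructor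
  · intro h; exact ⟨_, h, rfl⟩
  · rintro ⟨u, hu, h⟩
    rwa [← support₂_injective h]

/-! ### Sets of size at most four in a coset -/

/-- The sets of size at most 4 in the coset of `s`. -/
noncomputable def near (s : Finset GolayPt) : Finset (Finset GolayPt) := by
  classical exact Finset.univ.filter fun t => t.card ≤ 4 ∧ symmDiff s t ∈ codeSets

theorem mem_near {s t : Finset GolayPt} : t ∈ near s ↔ t.card ≤ 4 ∧ symmDiff s t ∈ codeSets := by
  classical simp [near]

theorem symmDiff_near {s t u : Finset GolayPt} (ht : t ∈ near s) (hu : u ∈ near s) :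
    symmDiff t u ∈ codeSets := by
  rw [mem_near] at ht hu
  have h := symmDiff_mem_supports ht.2 hu.2
  rwa [symmDiff_symmDiff_symmDiff_comm, symmDiff_self, bot_symmDiff] at h

/-- Two distinct members of `near s` are disjoint 4-sets whose union is an octad. -/
theorem near_pair {s t u : Finset GolayPt} (ht : t ∈ near s) (hu : u ∈ near s) (hne : t ≠ u) :
    t.card = 4 ∧ u.card = 4 ∧ Disjoint t u ∧ t ∪ u ∈ octads := by
  have h1 := symmDiff_near ht hu
  have h2 := card_symmDiff_add t u
  have ht4 := (mem_near.1 ht).1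
  have hu4 := (mem_near.1 hu).1
  have h3 : ¬ (symmDiff t u).card < 8 := by
    intro h
    exact hne (symmDiff_eq_empty (eq_empty_of_card_lt h1 h))
  have h4 : (t ∩ u).card = 0 := by omega
  have h5 : Disjoint t u := Finset.disjoint_iff_inter_eq_empty.2 (Finset.card_eq_zero.1 h4)
  refine ⟨by omega, by omega, h5, ?_⟩
  have h6 : t ∪ u = symmDiff t u := by
    rw [Finset.card_eq_zero] at h4
    ext p
    rw [Finset.mem_union, Finset.mem_symmDiff]
    have : p ∈ t → p ∉ u := fun h => Finset.disjoint_left.1 h5 h
    tauto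
  rw [h6]
  exact mem_octads_of_card h1 (by omega)

/-- The covering radius is at most 4. -/
theorem near_nonempty (s : Finset GolayPt) : (near s).Nonempty := by
  suffices ∀ n, ∀ t : Finset GolayPt, t.card = n → symmDiff s t ∈ codeSets →
      ∃ u : Finset GolayPt, u.card ≤ 4 ∧ symmDiff s u ∈ codeSets by
    obtain ⟨u, hu⟩ := this _ s rfl (by rw [symmDiff_self]; exact empty_mem_supports)
    exact ⟨u, mem_near.2 hu⟩
  intro n
  induction n using Nat.strong_induction_on with
  | _ n ih =>
    intro t ht hst
    by_cases h4 : t.card ≤ 4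
    · exact ⟨t, h4, hst⟩
    · obtain ⟨f, hft, hf5⟩ := Finset.exists_subset_card_eq (s := t) (n := 5) (by omega)
      obtain ⟨o, ho, hfo⟩ := exists_octad hf5
      have h1 := card_symmDiff_add t o
      have h2 : 5 ≤ (t ∩ o).card := hf5 ▸ Finset.card_le_card (Finset.subset_inter hft hfo)
      have h3 := card_octad ho
      refine ih (symmDiff t o).card (by omega) _ rfl ?_
      rw [← symmDiff_assoc]
      exact symmDiff_mem_supports hst (octads_subset ho)

/-- A coset with a member of size at most 3 has only one member of size at most 4. -/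
theorem near_eq_singleton {s t : Finset GolayPt} (ht : t ∈ near s) (h3 : t.card ≤ 3) : near s = {t} := by
  ext u
  rw [Finset.mem_singleton]
  constructor
  · intro hu
    by_contra hne
    have := (near_pair hu ht hne).2.1
    omega
  · rintro rfl; exact ht

/-- A coset with a member of size exactly 4: the six tetrads of a sextet. -/
theorem near_eq_sextet {s t : Finset GolayPt} (ht : t ∈ near s) (h4 : t.card = 4) : near s = sextetOf t := by
  ext u
  constructor
  · intro hu
    by_cases hne : u = t
    · rw [hne]; exact mem_sextetOf_self t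
    · obtain ⟨_, _, hd, ho⟩ := near_pair hu ht hne
      rw [sextetOf, Finset.mem_insert, Finset.mem_image]
      right
      refine ⟨u ∪ t, ?_, ?_⟩
      · rw [mem_octOver]; exact ⟨ho, Finset.subset_union_right⟩
      · rw [Finset.union_sdiff_right, Finset.sdiff_eq_self_of_disjoint hd]
  · intro hu
    by_cases hne : u = t
    · rw [hne]; exact ht
    · have h1 := sextetOf_mem h4
      have h2 := h1.2.2 t (mem_sextetOf_self t) u hu (Ne.symm hne)
      have h3 := sextet_disjoint h1 (mem_sextetOf_self t) hu (Ne.symm hne)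
      have hu4 := h1.2.1 u hu
      rw [mem_near]
      refine ⟨by omega, ?_⟩
      have h5 : t ∪ u = symmDiff t u := by
        ext p
        rw [Finset.mem_union, Finset.mem_symmDiff]
        have : p ∈ t → p ∉ u := fun h => Finset.disjoint_left.1 h3 h
        tauto
      have h6 := symmDiff_mem_supports (mem_near.1 ht).2 (octads_subset h2)
      rw [h5, symmDiff_assoc, symmDiff_symmDiff_cancel_left] at h6
      exact h6

theorem card_sextetOf {t : Finset GolayPt} (ht : t.card = 4) : (sextetOf t).card = 6 := (sextetOf_mem ht).1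

/-- **Coset leaders**. -/
theorem near_cases (s : Finset GolayPt) :
    (∃ t, near s = {t} ∧ t.card ≤ 3) ∨ (∃ t, near s = sextetOf t ∧ t.card = 4) := by
  obtain ⟨t, ht⟩ := near_nonempty s
  have h := (mem_near.1 ht).1
  rcases Nat.lt_or_ge t.card 4 with h3 | h4
  · exact Or.inl ⟨t, near_eq_singleton ht (by omega), by omega⟩
  · exact Or.inr ⟨t, near_eq_sextet ht (by omega), by omega⟩

theorem ncard_near (w : GolayPt → ZMod 2) :
    {v : GolayPt → ZMod 2 | hammingNorm v ≤ 4 ∧ w - v ∈ golayCode}.ncard = (near (support₂ w)).card := by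
  rw [← Set.ncard_coe_finset]
  apply Set.ncard_congr (fun v _ => support₂ v)
  · rintro v ⟨h1, h2⟩
    rw [Finset.mem_coe, mem_near]
    exact ⟨h1, sub_mem_iff.1 h2⟩
  · intro v v' _ _ h
    exact support₂_injective h
  · intro t ht
    rw [Finset.mem_coe, mem_near] at ht
    refine ⟨wordOf t, ⟨?_, ?_⟩, support₂_wordOf t⟩
    · rw [hammingNorm_eq, support₂_wordOf]; exact ht.1
    · rw [sub_mem_iff, support₂_wordOf]; exact ht.2

/-! ### The punctured code -/

/-- The code of length 23 obtained by deleting the extra coordinate. -/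
def code23 : Set (ZMod 23 → ZMod 2) := {u | ∃ w ∈ golayCode, ∀ x : ZMod 23, u x = w (some x)}

theorem norm23 (w : GolayPt → ZMod 2) :
    hammingNorm (fun x : ZMod 23 => w (some x)) = ((support₂ w).erase none).card := by
  unfold hammingNorm
  rw [← Finset.card_map (Function.Embedding.some : ZMod 23 ↪ Option (ZMod 23))]
  congr 1
  ext p
  simp only [Finset.mem_map, Finset.mem_filter, Finset.mem_univ, true_and, Finset.mem_erase,
    Function.Embedding.some_apply, support₂]
  constructor
  · rintro ⟨x, hx, rfl⟩
    exact ⟨by simp, hx⟩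
  · rintro ⟨h1, h2⟩
    cases p with
    | none => exact absurd rfl h1
    | some x => exact ⟨x, h2, rfl⟩

theorem card_support_le (w : GolayPt → ZMod 2) :
    (support₂ w).card ≤ hammingNorm (fun x : ZMod 23 => w (some x)) + 1 := by
  rw [norm23]
  have := Finset.pred_card_le_card_erase (s := support₂ w) (a := none)
  omega

/-- Nonzero words of the punctured code have weight at least 7. -/
theorem seven_le {w : GolayPt → ZMod 2} (hw : w ∈ golayCode) (h : w ≠ 0) :
    7 ≤ hammingNorm (fun x : ZMod 23 => w (some x)) := by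
  have h1 := card_support_le w
  by_contra h7
  have h2 : support₂ w = ∅ := eq_empty_of_card_lt ⟨w, hw, rfl⟩ (by omega)
  exact h (support₂_injective (h2.trans support₂_zero.symm))

theorem code23_sub {u v : ZMod 23 → ZMod 2} (hu : u ∈ code23) (hv : v ∈ code23) : u - v ∈ code23 := by
  obtain ⟨a, ha, h1⟩ := hu
  obtain ⟨b, hb, h2⟩ := hv
  exact ⟨a - b, golayCode.sub_mem ha hb, fun x => by simp [h1, h2]⟩

theorem code23_seven {u : ZMod 23 → ZMod 2} (hu : u ∈ code23) (h : u ≠ 0) : 7 ≤ hammingNorm u := by
  obtain ⟨w, hw, h1⟩ := hu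
  have h2 : u = fun x : ZMod 23 => w (some x) := funext h1
  rw [h2]
  apply seven_le hw
  rintro rfl
  exact h (by rw [h2]; rfl)

/-- Restriction is injective on the code. -/
theorem restrict_injOn : Set.InjOn (fun (w : GolayPt → ZMod 2) (x : ZMod 23) => w (some x))
    (golayCode : Set (GolayPt → ZMod 2)) := by
  intro v hv w hw h
  by_contra hne
  have h1 := seven_le (golayCode.sub_mem hv hw) (sub_ne_zero.2 hne)
  have h2 : (fun x : ZMod 23 => (v - w) (some x)) = 0 := by
    funext x
    have := congrFun h x
    simp only at this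
    simp [this]
  rw [h2, hammingNorm_zero] at h1
  omega

theorem ncard_code23 (P : (ZMod 23 → ZMod 2) → Prop) (p : ℕ → Bool)
    (hP : ∀ w ∈ golayCode, P (fun x : ZMod 23 => w (some x)) ↔ p (maskOf (support₂ w)) = true) {n : ℕ}
    (h : countBin (fun i => p (enc i)) 12 0 = n) : {u | u ∈ code23 ∧ P u}.ncard = n := by
  rw [← h, ← ncard_supports p]
  symm
  apply Set.ncard_congr (fun s _ => (fun x : ZMod 23 => wordOf s (some x)))
  · rintro s ⟨⟨w, hw, rfl⟩, h2⟩
    simp only [wordOf_support₂]
    exact ⟨⟨w, hw, fun _ => rfl⟩, (hP w hw).2 h2⟩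
  · rintro s t ⟨⟨w, hw, rfl⟩, _⟩ ⟨⟨v, hv, rfl⟩, _⟩ heq
    simp only [wordOf_support₂] at heq
    rw [restrict_injOn hw hv heq]
  · rintro u ⟨⟨w, hw, h1⟩, h2⟩
    have h3 : u = fun x : ZMod 23 => w (some x) := funext h1
    refine ⟨support₂ w, ⟨⟨w, hw, rfl⟩, ?_⟩, ?_⟩
    · rw [← hP w hw, ← h3]; exact h2
    · rw [h3]; simp only [wordOf_support₂]

theorem norm_mask {w : GolayPt → ZMod 2} :
    hammingNorm (fun x : ZMod 23 => w (some x)) = pop (Nat.land (maskOf (support₂ w)) 8388607) := by
  rw [norm23]
  have h1 : (support₂ w).erase none = support₂ w ∩ ofMask 8388607 := by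
    have : ofMask 8388607 = Finset.univ.erase none := by decide +kernel
    rw [this]
    ext p
    simp only [Finset.mem_erase, Finset.mem_inter, Finset.mem_univ, and_true]
    tauto
  rw [h1, card_eq_pop, maskOf_inter, maskOf_ofMask (by decide)]
  rfl

theorem ncard_weight (k n : ℕ)
    (h : countBin (fun i => Nat.beq (pop (Nat.land (enc i) 8388607)) k) 12 0 = n) :
    {u | u ∈ code23 ∧ hammingNorm u = k}.ncard = n := by
  apply ncard_code23 (fun u => hammingNorm u = k) (fun m => Nat.beq (pop (Nat.land m 8388607)) k) _ h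
  intro w _
  rw [norm_mask, Nat.beq_eq]

/-- **The punctured code is perfect.** -/
theorem perfect (u : ZMod 23 → ZMod 2) : ∃! c : ZMod 23 → ZMod 2, c ∈ code23 ∧ hammingDist u c ≤ 3 := by
  let w : GolayPt → ZMod 2 := fun p => match p with | none => 0 | some x => u x
  have key : ∃ v : GolayPt → ZMod 2, w - v ∈ golayCode ∧ hammingNorm (fun x : ZMod 23 => v (some x)) ≤ 3 := by
    rcases near_cases (support₂ w) with ⟨t, h1, h2⟩ | ⟨t, h1, h2⟩
    · have h3 : t ∈ near (support₂ w) := by rw [h1]; simp
      refine ⟨wordOf t, ?_, ?_⟩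
      · rw [sub_mem_iff, support₂_wordOf]; exact (mem_near.1 h3).2
      · rw [norm23, support₂_wordOf]
        exact (Finset.card_le_card (Finset.erase_subset _ _)).trans h2
    · obtain ⟨t', ht', hp⟩ := sextet_cover (sextetOf_mem h2) none
      have h3 : t' ∈ near (support₂ w) := by rw [h1]; exact ht'
      refine ⟨wordOf t', ?_, ?_⟩
      · rw [sub_mem_iff, support₂_wordOf]; exact (mem_near.1 h3).2
      · rw [norm23, support₂_wordOf, Finset.card_erase_of_mem hp]
        have := (mem_near.1 h3).1
        omega
  obtain ⟨v, hv, h3⟩ := key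
  have hd0 : hammingDist u (fun x : ZMod 23 => (w - v) (some x)) ≤ 3 := by
    have : hammingDist u (fun x : ZMod 23 => (w - v) (some x)) = hammingNorm (fun x : ZMod 23 => v (some x)) := by
      unfold hammingDist hammingNorm
      congr 1
      ext x
      simp [w, sub_eq_add_neg]
    rw [this]; exact h3
  refine ⟨fun x => (w - v) (some x), ⟨⟨w - v, hv, fun _ => rfl⟩, ?_⟩, ?_⟩
  · exact hd0
  · rintro c ⟨hc, hd⟩
    by_contra hne
    have h4 : c - (fun x : ZMod 23 => (w - v) (some x)) ∈ code23 :=
      code23_sub hc ⟨w - v, hv, fun _ => rfl⟩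
    have h5 := code23_seven h4 (sub_ne_zero.2 hne)
    have h8 : hammingNorm (c - fun x : ZMod 23 => (w - v) (some x)) =
        hammingDist c (fun x : ZMod 23 => (w - v) (some x)) := by
      unfold hammingDist hammingNorm
      congr 1
      ext x
      simp only [Finset.mem_filter, Finset.mem_univ, true_and, Pi.sub_apply, ne_eq, sub_eq_zero]
    have h6 := hammingDist_triangle_left c (fun x : ZMod 23 => (w - v) (some x)) u
    omega

end Cfsg.Agent.Golay.Coset
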