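import Cfsg.Agent.Golay.OrbInv

/-!
# The two classes of elements of order 3 of `M24` (owner: helper91)

* `sylow_conj` : an element of `p`-power order is conjugate into an explicit Sylow `p`-subgroup given by a list;
* `three_classify` : `x ^ 3 = 1`, `x ≠ 1` implies `x` conjugate to the element with table `tab36` (6 fixed points) or
  `tab30` (no fixed point).
-/

set_option autoImplicit false

namespace Cfsg.Agent.Golay.Orb

open Cfsg MulAction Cfsg.Agent.Golay
open scoped Pointwise

theorem beq_false_of_ne_aux {a b : ℕ} (h : a ≠ b) : Nat.beq a b = false := by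
  rw [← Bool.not_eq_true, Nat.beq_eq]; exact h

theorem sylow_conj {p : ℕ} [Fact p.Prime] {L : List ℕ} (hcl : closedL L = true) (hok : tabsOK L = true) {k : ℕ}
    (hlen : L.length = p ^ k) (hidx : ¬ p ∣ 244823040 / L.length) {x : Equiv.Perm GolayPt} (hxM : x ∈ M24) {j : ℕ}
    (hx : x ^ p ^ j = 1) : ∃ g ∈ M24, ∃ n ∈ L, IsTable n (g * x * g⁻¹) := by
  have hle := ofList_le L hcl
  let R : Subgroup M24 := (ofList L hcl).subgroupOf M24
  have hcR : Nat.card R = L.length := by
    rw [← card_ofList L hcl hok]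
    exact Nat.card_congr (Subgroup.subgroupOfEquivOfLe hle).toEquiv
  have hpR : IsPGroup p R := IsPGroup.of_card (by rw [hcR, hlen])
  have hlen0 : 0 < L.length := by rw [hlen]; exact pow_pos (Nat.Prime.pos Fact.out) _
  have hidx' : ¬ p ∣ R.index := by
    have h1 := R.card_mul_index
    rw [hcR, card_M24] at h1
    rw [← h1, Nat.mul_div_cancel_left _ hlen0] at hidx
    exact hidx
  let S : Sylow p M24 := hpR.toSylow hidx'
  let y : M24 := ⟨x, hxM⟩
  have hy : IsPGroup p (Subgroup.zpowers y) := by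
    apply IsPGroup.of_card (n := (Nat.card (Subgroup.zpowers y)).factorization p)
    have h2 : y ^ p ^ j = 1 := Subtype.ext hx
    have h3 : orderOf y ∣ p ^ j := orderOf_dvd_of_pow_eq_one h2
    rw [Nat.card_zpowers]
    obtain ⟨i, _, hi⟩ := (Nat.dvd_prime_pow Fact.out).1 h3
    rw [hi, Nat.Prime.factorization_pow Fact.out, Finsupp.single_eq_same]
  obtain ⟨Q, hQ⟩ := hy.exists_le_sylow
  obtain ⟨g, hg⟩ := MulAction.exists_smul_eq M24 Q S
  have h4 : g * y * g⁻¹ ∈ (S : Subgroup M24) := by
    rw [← hg]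
    have h5 : y ∈ (Q : Subgroup M24) := hQ (Subgroup.mem_zpowers y)
    rw [Sylow.coe_subgroup_smul]
    exact Subgroup.smul_mem_pointwise_smul y (MulAut.conj g) _ h5
  have h6 : g * y * g⁻¹ ∈ R := h4
  rw [Subgroup.mem_subgroupOf] at h6
  obtain ⟨n, hn, hT⟩ := h6
  exact ⟨g, g.2, n, hn, hT⟩

/-- A Sylow 3-subgroup. -/
def s27 : List ℕ := [0x1206904e3a31026de2b4bec5aba6a, 0x1604386e358ace44a6f4d1a6ab151, 0x1a05b86437b9acb1d544ad04a8a33, 0xa20dba6433096ea1e24015f6ab26a, 0xb6163a6e32b2827c94601168aba33, 0xda08924e3239ec5de6501a8da8951, 0x39aa855e706b88cb442592e8f18809, 0x3a2af8dd5058acea4d2d914861b020, 0x3bea69de302b2822280b936c81b921, 0x4ae14382e36b88c34a280d8afa8a6a, 0x4be0bb8243430a221e760b4d4ab951, 0x4d20f900e3b08ce2dd4d0a08bab233, 0x5146f0cd353096e400ed8d09683257, 0x53c7604c35a3102226e68b565838f2, 0x558654cc156b88c586548990f80ae7, 0x898740a935239ecb02e89acad808f2, 0x8b4664a815430a2784eb992d483a57, 0x8d06d0283558ace2a6449a1e6832e7, 0x916ad99e30b08ce42824bd1eb1b009, 0x92ea589d50239ec34c14bd90d18921,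 0x936ab51e70a31027c536b90c51b820, 0x9906b0c5352b2826825653cc883ae7, 0x9a0644c415b08cea06ef515ab830f2, 0x9ac68044357b9ac324e555a8480a57, 0xb92b68c950430a26cc263bd741b809, 0xbd2a454a703096e2c40f3a1b61b121, 0xbdab49ca307b9ac5a928398a418820]

/-- Conjugators for its elements. -/
def c27 : List ℕ := [0xbdab49ca307b9ac5a928398a418820, 0xa166b8b1f255483bb9203a2cd0c046, 0xbdab49ca307b9ac5a928398a418820, 0x78471338552a0ed481935589282e97, 0x9e912824612d2d65d55b41c37a264, 0xb3a4a04ea1a110262ee7835258bcc3, 0x9d4815012da08af19cd1bc24863976, 0xb0595a2ca285e531a09132547681cf, 0x52dd27a58db5630a0808384c520ef3, 0x4182e81cb10326f5aa841d857936a9, 0x8526eadd5232ecd6446f394820a120, 0x1ccb2a18f60880c6c2b74a90b23a2f, 0x505153c68d8158415cce78e725d920, 0xa55230c847816f6699e062968891d3, 0xbbd4b416491b2ae6828688ad039261, 0xa9e4c31611b926f52062b25c00b574, 0xd9d789a62ab4881bcf0480aa62e92, 0xaa2eb63e0a245a92d0c174ad301c62, 0xa4d89215af019561ba5541ef012c31, 0x50de691c24a090cac6f64c1656ba60, 0xa1850494e4a81731a9f6444326ddcc,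 0x9dcb5944e41186f8212a6b1c0b502b, 0xa306131d30729a0959e22a173adc91, 0x1e359950113da44aed03286c93a97, 0x11d8abb80faca8144cd020ca96c576, 0x259a62ba8f845215227560ceb14817, 0xbdab49ca307b9ac5a928398a418820]

/-- order 3, six fixed points -/
def tab36 : ℕ := 0x1a05b86437b9acb1d544ad04a8a33
/-- order 3, no fixed points -/
def tab30 : ℕ := 0x1206904e3a31026de2b4bec5aba6a

theorem tab36_valid : validM24 tab36 = true := by decide +kernel
theorem tab30_valid : validM24 tab30 = true := by decide +kernel

theorem s27_closed : closedL s27 = true := by decide +kernel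
theorem s27_ok : tabsOK s27 = true := by decide +kernel

/-- `w` conjugates `n` to `a` or `b`, or `n` is the identity -/
def conjAt (a b n w : ℕ) : Bool :=
  match Nat.beq n idTab with
  | true => true
  | false => match validM24 w with
    | false => false
    | true => fz (pmul w n) fun c => match Nat.beq c (pmul a w) with
      | true => true
      | false => Nat.beq c (pmul b w)

def conjAll (a b : ℕ) : List ℕ → List ℕ → Bool
  | [], _ => true
  | _ :: _, [] => false
  | e :: es, w :: ws => match conjAt a b e w with | true => conjAll a b es ws | false => false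

theorem conjAll_spec {a b : ℕ} : ∀ {L W : List ℕ}, conjAll a b L W = true → ∀ e ∈ L, ∃ w, conjAt a b e w = true := by
  intro L
  induction L with
  | nil => intro W _ e he; exact absurd he (by simp)
  | cons c l ih =>
    intro W h e he
    cases W with
    | nil => simp [conjAll] at h
    | cons w ws =>
      simp only [conjAll] at h
      cases h1 : conjAt a b c w with
      | false => rw [h1] at h; exact absurd h (by simp)
      | true =>
        rw [h1] at h
        rcases List.mem_cons.1 he with rfl | he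
        · exact ⟨w, h1⟩
        · exact ih h e he

theorem conjAt_spec {a b n w : ℕ} (ha : validM24 a = true) (hb : validM24 b = true) {σ : Equiv.Perm GolayPt}
    (hσ : IsTable n σ) (hne : σ ≠ 1) (h : conjAt a b n w = true) :
    ∃ g ∈ M24, IsTable a (g * σ * g⁻¹) ∨ IsTable b (g * σ * g⁻¹) := by
  unfold conjAt at h
  have h0 : Nat.beq n idTab = false := by
    apply beq_false_of_ne_aux
    rintro rfl
    exact hne (isTable_unique hσ isTable_one)
  rw [h0] at h
  cases h5 : validM24 w with
  | false => simp only [h5] at h; exact absurd h (by simp)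
  | true =>
    simp only [h5, fz_eq] at h
    obtain ⟨g, hg, hgT⟩ := exists_mem_M24 h5
    refine ⟨g, hg, ?_⟩
    have h6 := isTable_pmul hgT hσ
    have conv : ∀ t : ℕ, validM24 t = true → pmul w n = pmul t w → IsTable t (g * σ * g⁻¹) := by
      intro t ht hteq
      obtain ⟨τ, _, hτ⟩ := exists_mem_M24 ht
      have h7 := isTable_pmul hτ hgT
      rw [← hteq] at h7
      have h8 : g * σ = τ * g := isTable_unique h6 h7
      rw [h8, mul_inv_cancel_right]
      exact hτ
    cases h9 : Nat.beq (pmul w n) (pmul a w) with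
    | true => exact Or.inl (conv a ha (Nat.eq_of_beq_eq_true h9))
    | false =>
      rw [h9] at h
      exact Or.inr (conv b hb (Nat.eq_of_beq_eq_true h))

theorem c27_check : conjAll tab36 tab30 s27 c27 = true := by decide +kernel

/-- **Classification of the elements of order 3 of `M24`.** -/
theorem three_classify {x : Equiv.Perm GolayPt} (hx : x ∈ M24) (h3 : x ^ 3 = 1) (hne : x ≠ 1) :
    ∃ g ∈ M24, IsTable tab36 (g * x * g⁻¹) ∨ IsTable tab30 (g * x * g⁻¹) := by
  have : Fact (Nat.Prime 3) := ⟨Nat.prime_three⟩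
  obtain ⟨g, hg, n, hn, hT⟩ := sylow_conj (p := 3) s27_closed s27_ok (k := 3) (by decide) (by decide) hx (j := 1)
    (by simpa using h3)
  obtain ⟨w, hw⟩ := conjAll_spec c27_check n hn
  have hne' : g * x * g⁻¹ ≠ 1 := by
    intro h
    apply hne
    rw [mul_inv_eq_one] at h
    exact mul_left_cancel (h.trans (mul_one g).symm)
  obtain ⟨k, hk, h⟩ := conjAt_spec tab36_valid tab30_valid hT hne' hw
  refine ⟨k * g, M24.mul_mem hk hg, ?_⟩
  have h7 : k * g * x * (k * g)⁻¹ = k * (g * x * g⁻¹) * k⁻¹ := by group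
  rw [h7]
  exact h

theorem fixCount_tab36 : fixCount tab36 = 6 := by decide +kernel
theorem fixCount_tab30 : fixCount tab30 = 0 := by decide +kernel

theorem three_fix6 {s : Equiv.Perm GolayPt} (hs : s ∈ M24) (h2 : orderOf s = 3)
    (h8 : (Finset.univ.filter fun p => s p = p).card ≠ 0) : ∃ g ∈ M24, IsTable tab36 (g * s * g⁻¹) := by
  have hss : s ^ 3 = 1 := by rw [← h2, pow_orderOf_eq_one]
  have hne : s ≠ 1 := by rintro rfl; rw [orderOf_one] at h2; omega
  obtain ⟨g, hg, h | h⟩ := three_classify hs hss hne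
  · exact ⟨g, hg, h⟩
  · exfalso
    apply h8
    rw [← fixCount_conj g s, fixCount_spec h, fixCount_tab30]

theorem three_fix0 {s : Equiv.Perm GolayPt} (hs : s ∈ M24) (h2 : orderOf s = 3)
    (h8 : (Finset.univ.filter fun p => s p = p).card ≠ 6) : ∃ g ∈ M24, IsTable tab30 (g * s * g⁻¹) := by
  have hss : s ^ 3 = 1 := by rw [← h2, pow_orderOf_eq_one]
  have hne : s ≠ 1 := by rintro rfl; rw [orderOf_one] at h2; omega
  obtain ⟨g, hg, h | h⟩ := three_classify hs hss hne
  · exfalso
    apply h8
    rw [← fixCount_conj g s, fixCount_spec h, fixCount_tab36]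
  · exact ⟨g, hg, h⟩

end Cfsg.Agent.Golay.Orb
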